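import Groth.Agent.Lib.Helper19.Conn.Divisible
import Groth.Agent.Lib.Helper19.Conn.Clopen
import Mathlib.RingTheory.Jacobson.Ring

/-!
# Infinitely divisible functions on an affine variety take finitely many values
-/

set_option autoImplicit false
set_option linter.style.haveILetI false
open Polynomial Topology Filter

namespace Groth.Agent.Lib.Helper19.Conn

open Groth.Agent.Lib.Helper19

/-- An element of an affine domain over `ℂ` killed by all characters is zero. -/
lemma eq_zero_of_forall_apply_eq_zero {A : Type*} [CommRing A] [IsDomain A] [Algebra ℂ A]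
    [Algebra.FiniteType ℂ A] (b : A) (h : ∀ χ : A →ₐ[ℂ] ℂ, χ b = 0) : b = 0 := by
  haveI : IsJacobsonRing A := isJacobsonRing_of_finiteType (A := ℂ) (B := A)
  have h1 : b ∈ (⊥ : Ideal A).jacobson := by
    rw [Ideal.jacobson, Ideal.mem_sInf]
    rintro Q ⟨-, hQ⟩
    haveI := hQ
    obtain ⟨ψ, hψ⟩ := CP.exists_algHom_ker_eq Q
    rw [← hψ]
    exact RingHom.mem_ker.mpr (h ψ)
  rw [IsJacobsonRing.out ‹_› (Ideal.isPrime_bot (α := A)).isRadical] at h1
  exact h1

/-- A function on an affine variety which has regular `N`-th roots for all `N` takes only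
finitely many values on complex points. -/
theorem finite_values_of_divisible {R : Type*} [CommRing R] [Algebra ℂ R]
    [Algebra.FiniteType ℂ R] (a : R)
    (hdiv : ∀ N : ℕ, 0 < N → ∃ v : R, ∀ χ : R →ₐ[ℂ] ℂ, χ v ^ N = χ a) :
    {z : ℂ | ∃ χ : R →ₐ[ℂ] ℂ, χ a = z}.Finite := by
  haveI : IsNoetherianRing R := Algebra.FiniteType.isNoetherianRing ℂ R
  have hfin : (minimalPrimes R).Finite := minimalPrimes.finite_of_isNoetherianRing R
  have hconst : ∀ p ∈ minimalPrimes R, ∃ c : ℂ, ∀ χ : R →ₐ[ℂ] ℂ,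
      p ≤ RingHom.ker χ → χ a = c := by
    intro p hp
    haveI : p.IsPrime := hp.1.1
    haveI : IsDomain (R ⧸ p) := Ideal.Quotient.isDomain p
    haveI : Algebra.FiniteType ℂ (R ⧸ p) :=
      Algebra.FiniteType.of_surjective (Ideal.Quotient.mkₐ ℂ p) (Ideal.Quotient.mkₐ_surjective ℂ p)
    obtain ⟨c, hc⟩ := exists_eq_algebraMap_of_divisible (Ideal.Quotient.mk p a) (by
      intro N hN
      obtain ⟨v, hv⟩ := hdiv N hN
      refine ⟨Ideal.Quotient.mk p v, ?_⟩
      rw [← sub_eq_zero]
      apply eq_zero_of_forall_apply_eq_zero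
      intro χ'
      have := hv (CP.quotMap p χ')
      rw [map_sub, map_pow, sub_eq_zero]
      exact this)
    refine ⟨c, fun χ hχ => ?_⟩
    obtain ⟨χ', rfl⟩ : χ ∈ Set.range (CP.quotMap p) := by rw [range_quotMap]; exact hχ
    change χ' (Ideal.Quotient.mk p a) = c
    rw [hc]
    simp
  choose! c hc using hconst
  refine (hfin.image c).subset ?_
  rintro z ⟨χ, rfl⟩
  haveI : (RingHom.ker χ).IsPrime := RingHom.ker_isPrime χ
  obtain ⟨p, hp, hle⟩ := Ideal.exists_minimalPrimes_le (J := RingHom.ker χ) bot_le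
  exact ⟨p, hp, (hc p hp χ hle).symm⟩

end Groth.Agent.Lib.Helper19.Conn
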