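import Groth.Agent.Lib.Helper19.Conn.Domain
import Mathlib.Topology.Algebra.Polynomial
import Mathlib.Analysis.SpecialFunctions.Pow.Real
import Mathlib.FieldTheory.IsAlgClosed.Basic

/-!
# Infinitely divisible elements of an affine domain over `ℂ` are constants

If `A` is a finitely generated `ℂ`-algebra which is a domain and `a : A` has an `N`-th root in `A`
for every `N ≥ 1`, then `a` is a constant.  The proof is by a growth argument: after Noether
normalisation the coefficients of the minimal polynomial of an `N`-th root grow like `‖t‖^(D/N)`,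
so they are constant for large `N`.
-/

set_option autoImplicit false
set_option linter.style.haveILetI false
open Polynomial Topology Filter nonZeroDivisors

namespace Groth.Agent.Lib.Helper19.Conn

open Groth.Agent.Lib.Helper19

section onevar

lemma natDegree_le_of_growth (p : ℂ[X]) {K : ℝ} {E : ℕ}
    (h : ∀ z, ‖p.eval z‖ ≤ K * (1 + ‖z‖) ^ E) : p.natDegree ≤ E := by
  obtain ⟨p', hdeg, heq⟩ := exists_polynomial_of_growth (f := fun z => p.eval z)
    p.differentiable h
  have : p = p' := Polynomial.funext heq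
  rw [this]
  exact hdeg

end onevar

section multivar

variable {n : ℕ}

/-- The restriction of a polynomial to the line through `0` and `t`. -/
noncomputable def rayP (t : Fin n → ℂ) (c : MvPolynomial (Fin n) ℂ) : ℂ[X] :=
  MvPolynomial.aeval (fun j => Polynomial.C (t j) * Polynomial.X) c

lemma eval_rayP (t : Fin n → ℂ) (c : MvPolynomial (Fin n) ℂ) (s : ℂ) :
    (rayP t c).eval s = MvPolynomial.eval (s • t) c := by
  unfold rayP
  induction c using MvPolynomial.induction_on with
  | C a => simp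
  | add p q hp hq => rw [map_add, Polynomial.eval_add, hp, hq, map_add]
  | mul_X p i hp =>
    rw [map_mul, Polynomial.eval_mul, hp, map_mul, MvPolynomial.aeval_X, MvPolynomial.eval_X,
      Polynomial.eval_mul, Polynomial.eval_C, Polynomial.eval_X, Pi.smul_apply, smul_eq_mul,
      mul_comm (t i) s]

/-- A polynomial in several variables some power of which has growth of smaller order than the
exponent is constant. -/
lemma eq_C_of_pow_growth (P : MvPolynomial (Fin n) ℂ) {N E : ℕ} (hEN : E < N) {K : ℝ}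
    (h : ∀ t : Fin n → ℂ, ‖MvPolynomial.eval t P‖ ^ N ≤ K * (1 + ‖t‖) ^ E) :
    P = MvPolynomial.C (MvPolynomial.eval 0 P) := by
  apply MvPolynomial.funext
  intro t
  rw [MvPolynomial.eval_C]
  set ℓ := rayP t P with hℓ
  have hgrow : ∀ s : ℂ, ‖(ℓ ^ N).eval s‖ ≤ (K * (1 + ‖t‖) ^ E) * (1 + ‖s‖) ^ E := by
    intro s
    rw [Polynomial.eval_pow, norm_pow, eval_rayP]
    refine le_trans (h (s • t)) ?_
    have hK : 0 ≤ K := by
      have h0 := h 0
      have hpos : (0 : ℝ) < (1 + ‖(0 : Fin n → ℂ)‖) ^ E := by positivity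
      have : 0 ≤ K * (1 + ‖(0 : Fin n → ℂ)‖) ^ E := le_trans (by positivity) h0
      exact nonneg_of_mul_nonneg_left this hpos
    have h1 : 1 + ‖s • t‖ ≤ (1 + ‖t‖) * (1 + ‖s‖) := by
      rw [norm_smul]
      nlinarith [norm_nonneg s, norm_nonneg t]
    calc K * (1 + ‖s • t‖) ^ E ≤ K * ((1 + ‖t‖) * (1 + ‖s‖)) ^ E := by
          gcongr
        _ = K * (1 + ‖t‖) ^ E * (1 + ‖s‖) ^ E := by rw [mul_pow, mul_assoc]
  have hdeg := natDegree_le_of_growth (ℓ ^ N) hgrow
  rw [Polynomial.natDegree_pow] at hdeg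
  have hℓ0 : ℓ.natDegree = 0 := by
    by_contra hne
    have h1 : 1 ≤ ℓ.natDegree := Nat.one_le_iff_ne_zero.mpr hne
    have : N ≤ N * ℓ.natDegree := Nat.le_mul_of_pos_right N h1
    omega
  have hconst := Polynomial.eq_C_of_natDegree_eq_zero hℓ0
  have h1 : ℓ.eval 1 = ℓ.eval 0 := by
    rw [hconst]; simp
  rw [eval_rayP, eval_rayP, one_smul, zero_smul] at h1
  exact h1

end multivar

section degree

variable {R A : Type*} [CommRing R] [IsDomain R] [IsIntegrallyClosed R]
  [CommRing A] [IsDomain A] [Algebra R A] [FaithfulSMul R A] [Module.Finite R A]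

attribute [local instance] FractionRing.liftAlgebra

/-- The degrees of minimal polynomials over the base are uniformly bounded. -/
lemma exists_natDegree_minpoly_le : ∃ m₀ : ℕ, ∀ y : A, (minpoly R y).natDegree ≤ m₀ := by
  let K := FractionRing R
  let L := FractionRing A
  haveI : Algebra.IsIntegral R A := Algebra.IsIntegral.of_finite R A
  haveI : IsLocalization (Algebra.algebraMapSubmonoid A R⁰) L := inferInstance
  haveI : Module.Finite K L := Module.Finite.of_isLocalization R A R⁰
  refine ⟨Module.finrank K L, fun y => ?_⟩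
  have hy : IsIntegral R y := Algebra.IsIntegral.isIntegral y
  have h1 := minpoly.isIntegrallyClosed_eq_field_fractions K L hy
  have h2 : (minpoly K (algebraMap A L y)).natDegree = (minpoly R y).natDegree := by
    rw [h1, (minpoly.monic hy).natDegree_map]
  rw [← h2]
  exact minpoly.natDegree_le _

end degree

section main

variable {n : ℕ} {A : Type*} [CommRing A] [IsDomain A] [Algebra ℂ A] [Algebra.FiniteType ℂ A]
  [Algebra (MvPolynomial (Fin n) ℂ) A] [IsScalarTower ℂ (MvPolynomial (Fin n) ℂ) A]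
  [Module.Finite (MvPolynomial (Fin n) ℂ) A] [FaithfulSMul (MvPolynomial (Fin n) ℂ) A]

/-- Values of an integral element at complex points grow polynomially in the coordinates. -/
lemma exists_growth_bound (a : A) :
    ∃ (C : ℝ) (D : ℕ), 1 ≤ C ∧ ∀ ψ : A →ₐ[ℂ] ℂ, ‖ψ a‖ ≤ C * (1 + ‖coords (n := n) ψ‖) ^ D := by
  haveI : Algebra.IsIntegral (MvPolynomial (Fin n) ℂ) A := Algebra.IsIntegral.of_finite _ A
  have ha : IsIntegral (MvPolynomial (Fin n) ℂ) a := Algebra.IsIntegral.isIntegral a
  set p := minpoly (MvPolynomial (Fin n) ℂ) a with hp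
  have hmonic : p.Monic := minpoly.monic ha
  let S : ℕ → ℝ := fun i => ∑ e ∈ (p.coeff i).support, ‖MvPolynomial.coeff e (p.coeff i)‖
  let D : ℕ := (Finset.range p.natDegree).sup fun i => (p.coeff i).totalDegree
  let C : ℝ := ∑ i ∈ Finset.range p.natDegree, S i
  have hS : ∀ i, 0 ≤ S i := fun i => Finset.sum_nonneg fun _ _ => norm_nonneg _
  have hC : 0 ≤ C := Finset.sum_nonneg fun i _ => hS i
  refine ⟨C + 1, D, by linarith, fun ψ => ?_⟩
  set t := coords (n := n) ψ with ht
  have hroot : (p.map (MvPolynomial.eval t)).IsRoot (ψ a) := by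
    rw [Polynomial.IsRoot.def, ← map_aeval', hp, minpoly.aeval, map_zero]
  have h1t : (1 : ℝ) ≤ 1 + ‖t‖ := by linarith [norm_nonneg t]
  have hcoef : ∀ i < (p.map (MvPolynomial.eval t)).natDegree,
      ‖(p.map (MvPolynomial.eval t)).coeff i‖ ≤ C * (1 + ‖t‖) ^ D := by
    intro i hi
    rw [hmonic.natDegree_map] at hi
    rw [Polynomial.coeff_map]
    refine le_trans (norm_eval_le (p.coeff i) t) ?_
    have hi' : i ∈ Finset.range p.natDegree := Finset.mem_range.mpr hi
    have h2 : S i ≤ C := Finset.single_le_sum (fun j _ => hS j) hi'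
    have h3 : (p.coeff i).totalDegree ≤ D :=
      Finset.le_sup (f := fun i => (p.coeff i).totalDegree) hi'
    exact mul_le_mul h2 (pow_le_pow_right₀ h1t h3) (by positivity) hC
  have hlt := CP.norm_lt_of_isRoot_monic (hmonic.map _) hroot (by positivity) hcoef
  have h4 : (1 : ℝ) ≤ (1 + ‖t‖) ^ D := one_le_pow₀ h1t
  nlinarith [hlt, h4]

/-- Key step: in the Noether normalised situation, an infinitely divisible element is constant. -/
theorem exists_eq_algebraMap_of_divisible_aux (n : ℕ) {A : Type*} [CommRing A] [IsDomain A]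
    [Algebra ℂ A] [Algebra.FiniteType ℂ A]
    [Algebra (MvPolynomial (Fin n) ℂ) A] [IsScalarTower ℂ (MvPolynomial (Fin n) ℂ) A]
    [Module.Finite (MvPolynomial (Fin n) ℂ) A] [FaithfulSMul (MvPolynomial (Fin n) ℂ) A] (a : A)
    (hdiv : ∀ N : ℕ, 0 < N → ∃ b : A, b ^ N = a) : ∃ c : ℂ, a = algebraMap ℂ A c := by
  haveI : Algebra.IsIntegral (MvPolynomial (Fin n) ℂ) A := Algebra.IsIntegral.of_finite _ A
  obtain ⟨C, D, hC1, hgrow⟩ := exists_growth_bound (n := n) a
  obtain ⟨m₀, hm₀⟩ := exists_natDegree_minpoly_le (R := MvPolynomial (Fin n) ℂ) (A := A)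
  set N : ℕ := m₀ * D + 1 with hN
  have hNpos : 0 < N := Nat.succ_pos _
  have hN0 : N ≠ 0 := hNpos.ne'
  obtain ⟨b, hb⟩ := hdiv N hNpos
  have hbint : IsIntegral (MvPolynomial (Fin n) ℂ) b := Algebra.IsIntegral.isIntegral b
  set q := minpoly (MvPolynomial (Fin n) ℂ) b with hq
  have hqmonic : q.Monic := minpoly.monic hbint
  have hqdeg : q.natDegree ≤ m₀ := hm₀ b
  let M : ℝ := (m₀.choose (m₀ / 2) : ℝ)
  -- the bound on the coefficients
  have hcoefbound : ∀ (i : ℕ) (t : Fin n → ℂ),
      ‖MvPolynomial.eval t (q.coeff i)‖ ^ N ≤ (C ^ m₀ * M ^ N) * (1 + ‖t‖) ^ (D * m₀) := by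
    intro i t
    have h1t : (1 : ℝ) ≤ 1 + ‖t‖ := by linarith [norm_nonneg t]
    set Xr : ℝ := C * (1 + ‖t‖) ^ D with hXr
    have hX1 : 1 ≤ Xr := by
      have : (1 : ℝ) ≤ (1 + ‖t‖) ^ D := one_le_pow₀ h1t
      nlinarith
    have hX0 : 0 ≤ Xr := by linarith
    set B : ℝ := Xr ^ ((N : ℝ)⁻¹) with hB
    have hB1 : 1 ≤ B := Real.one_le_rpow hX1 (by positivity)
    have hBN : B ^ N = Xr := Real.rpow_inv_natCast_pow hX0 hN0
    have hroots : ∀ z ∈ (q.map (MvPolynomial.eval t)).roots, ‖z‖ ≤ B := by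
      intro z hz
      have hzroot : (q.map (MvPolynomial.eval t)).IsRoot z := (Polynomial.mem_roots'.mp hz).2
      obtain ⟨ψ, hψres, hψb⟩ := CP.exists_lift_root b (MvPolynomial.aeval t) z hzroot
      have hcoords : coords (n := n) ψ = t := by
        funext i
        have := congrArg (fun χ : MvPolynomial (Fin n) ℂ →ₐ[ℂ] ℂ => χ (MvPolynomial.X i)) hψres
        simpa [coords, CP.res_apply] using this
      have h1 : ‖z‖ ^ N ≤ Xr := by
        rw [← hψb, ← norm_pow, ← map_pow, hb]
        have := hgrow ψ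
        rwa [hcoords] at this
      have h2 : ‖z‖ = (‖z‖ ^ N) ^ ((N : ℝ)⁻¹) :=
        (Real.pow_rpow_inv_natCast (norm_nonneg z) hN0).symm
      rw [h2]
      exact Real.rpow_le_rpow (by positivity) h1 (by positivity)
    have hbdd := Polynomial.coeff_bdd_of_roots_le (MvPolynomial.eval t) hqmonic
      (IsAlgClosed.splits _) hqdeg hroots i
    rw [max_eq_left hB1, Polynomial.coeff_map] at hbdd
    calc ‖MvPolynomial.eval t (q.coeff i)‖ ^ N ≤ (B ^ m₀ * M) ^ N := by
          gcongr
        _ = (B ^ N) ^ m₀ * M ^ N := by rw [mul_pow, ← pow_mul, ← pow_mul, mul_comm m₀ N]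
        _ = (C ^ m₀ * M ^ N) * (1 + ‖t‖) ^ (D * m₀) := by
          rw [hBN, hXr, mul_pow, ← pow_mul]; ring
  have hE : D * m₀ < N := by rw [hN, mul_comm]; exact Nat.lt_succ_self _
  have hconst : ∀ i, q.coeff i = MvPolynomial.C (MvPolynomial.eval 0 (q.coeff i)) := fun i =>
    eq_C_of_pow_growth (q.coeff i) hE (hcoefbound i)
  -- `q` has constant coefficients
  let q₀ : ℂ[X] := q.map (MvPolynomial.eval (0 : Fin n → ℂ))
  have hq₀ : q₀.map (algebraMap ℂ (MvPolynomial (Fin n) ℂ)) = q := by
    ext i : 1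
    rw [Polynomial.coeff_map, Polynomial.coeff_map]
    exact (hconst i).symm
  have hq₀monic : q₀.Monic := hqmonic.map _
  have hroot : Polynomial.aeval b q₀ = 0 := by
    have h1 : Polynomial.aeval b q = 0 := minpoly.aeval _ b
    rw [← hq₀, Polynomial.aeval_map_algebraMap] at h1
    exact h1
  have hbintC : IsIntegral ℂ b := ⟨q₀, hq₀monic, hroot⟩
  have hirr : Irreducible (minpoly ℂ b) := minpoly.irreducible hbintC
  have hdeg1 : (minpoly ℂ b).degree = 1 := IsAlgClosed.degree_eq_one_of_irreducible ℂ hirr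
  have hmem : b ∈ (algebraMap ℂ A).range := minpoly.mem_range_of_degree_eq_one ℂ b hdeg1
  obtain ⟨c, hc⟩ := hmem
  exact ⟨c ^ N, by rw [map_pow, hc, hb]⟩

end main

/-- An infinitely divisible element of an affine domain over `ℂ` is a constant. -/
theorem exists_eq_algebraMap_of_divisible {A : Type*} [CommRing A] [IsDomain A] [Algebra ℂ A]
    [Algebra.FiniteType ℂ A] (a : A) (hdiv : ∀ N : ℕ, 0 < N → ∃ b : A, b ^ N = a) :
    ∃ c : ℂ, a = algebraMap ℂ A c := by
  obtain ⟨n, g, hginj, hgfin⟩ := exists_finite_inj_algHom_of_fg ℂ A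
  letI : Algebra (MvPolynomial (Fin n) ℂ) A := g.toRingHom.toAlgebra
  haveI : IsScalarTower ℂ (MvPolynomial (Fin n) ℂ) A :=
    IsScalarTower.of_algebraMap_eq fun c => (g.commutes c).symm
  haveI : Module.Finite (MvPolynomial (Fin n) ℂ) A := hgfin
  haveI : FaithfulSMul (MvPolynomial (Fin n) ℂ) A :=
    (faithfulSMul_iff_algebraMap_injective _ A).mpr hginj
  exact exists_eq_algebraMap_of_divisible_aux n a hdiv

end Groth.Agent.Lib.Helper19.Conn
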